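import Cfsg.Agent.TAB.Co.Fin
import Cfsg.Agent.S0135

/-!
# Half of the sum of two rows of norm two (helper88, TAB)

`virt_half` : a virtual row `u` of norm two whose coefficient in the regular character does not divide the group order
shares its constituents with another row.
-/

set_option autoImplicit false

namespace Cfsg.Agent.TAB.Co

open Cfsg Cfsg.Agent.TAB.Eng Cfsg.Agent.TAB.Use Cfsg.Agent.Characters Cfsg.Agent.Characters.Core
open Cfsg.Agent.Characters.Brauer Cfsg.Agent.H447.CTab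
open scoped ComplexConjugate

universe u

theorem even_of_share {I : Type*} [Fintype I] {μ ν : I → ℤ} {n : ℤ} (hn : n ≤ 2) (h1 : ∑ z, μ z * μ z = 2)
    (h2 : ∑ z, ν z * ν z = n) (h3 : ∑ z, μ z * ν z = 0) {x : I} (hx : μ x ≠ 0) (hx' : ν x ≠ 0) :
    n = 2 ∧ ∀ z, ∃ c : ℤ, μ z + ν z = c + c := by
  classical
  have key : ∀ {f : I → ℤ}, ∑ z, f z * f z ≤ 2 → f x ≠ 0 → f x = 1 ∨ f x = -1 := fun {f} h h' => by
    have h4 : f x * f x ≤ ∑ z, f z * f z :=
      Finset.single_le_sum (f := fun z => f z * f z) (fun y _ => mul_self_nonneg _) (Finset.mem_univ x)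
    have h5 : f x < 2 := by nlinarith
    have h6 : -2 < f x := by nlinarith
    omega
  have h4 := key h1.le hx
  have h5 := key (h2.le.trans hn) hx'
  obtain ⟨e, he, h6⟩ : ∃ e : ℤ, (e = 1 ∨ e = -1) ∧ (μ x + e * ν x) * (μ x + e * ν x) = 4 := by
    rcases h4 with h4 | h4 <;> rcases h5 with h5 | h5 <;> rw [h4, h5]
    exacts [⟨1, Or.inl rfl, by norm_num⟩, ⟨-1, Or.inr rfl, by norm_num⟩, ⟨-1, Or.inr rfl, by norm_num⟩,
      ⟨1, Or.inl rfl, by norm_num⟩]
  have h7 : ∑ z, (μ z + e * ν z) * (μ z + e * ν z) = 2 + n := by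
    have h8 : ∀ z, (μ z + e * ν z) * (μ z + e * ν z) = μ z * μ z + ν z * ν z + 2 * e * (μ z * ν z) := fun z => by
      rcases he with rfl | rfl <;> ring
    simp only [h8, Finset.sum_add_distrib, ← Finset.mul_sum, h1, h2, h3, mul_zero, add_zero]
  rw [← Finset.add_sum_erase _ _ (Finset.mem_univ x), h6] at h7
  have h8 : 0 ≤ ∑ z ∈ Finset.univ.erase x, (μ z + e * ν z) * (μ z + e * ν z) :=
    Finset.sum_nonneg fun z _ => mul_self_nonneg _
  refine ⟨by omega, fun z => ?_⟩
  by_cases hz : z = x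
  · refine ⟨(μ z + ν z) / 2, ?_⟩
    rw [hz]
    omega
  · have h9 := (Finset.sum_eq_zero_iff_of_nonneg fun z _ => mul_self_nonneg (μ z + e * ν z)).1 (by omega) z
      (Finset.mem_erase.2 ⟨hz, Finset.mem_univ z⟩)
    rw [mul_self_eq_zero] at h9
    refine ⟨(μ z + ν z) / 2, ?_⟩
    rcases he with rfl | rfl <;> omega

/-- the check : `L` contains the other rows with their coefficients in the regular character -/
noncomputable def okHalf (D : Dat) (u v w : List ℤ) (a : ℕ) (L : List (ℤ × List ℤ)) : Bool :=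
  D.cntL.length == D.n && D.N % a != 0 && ip D u u == D.N * 2 &&
  (L.all fun p => ip D u p.2 == D.N * 0 && (ip D p.2 p.2 == D.N * 1 || (ip D p.2 p.2 == D.N * 2 &&
    (p.2 == v || (List.range D.n).any fun t => decide (0 < D.cnt t) && (nth u t + nth p.2 t) % 2 != 0)))) &&
  (List.range D.n).all fun t => nth u t + nth v t == nth w t + nth w t &&
    a * nth u t + (L.map fun p => p.1 * nth p.2 t).sum == if D.ord t = 1 then (D.N : ℤ) else 0

variable {G : Type u} [Group G] [Finite G] {D : Dat} {T : TD G D}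

omit [Finite G] in
theorem inner_list [Fintype G] {ψ : G → ℂ} : ∀ L : List (ℤ × List ℤ), (∀ p ∈ L, classInner (fn T p.2) ψ = 0) →
    classInner (fun g => (((L.map fun p => p.1 * nth p.2 (T.ty g)).sum : ℤ) : ℂ)) ψ = 0
  | [], _ => by
    have h : (fun g : G => (((([] : List (ℤ × List ℤ)).map fun p => p.1 * nth p.2 (T.ty g)).sum : ℤ) : ℂ)) = 0 := by
      funext g; simp
    rw [h, classInner_zero_left]
  | p :: L, h => by
    have h1 : (fun g : G => ((((p :: L).map fun p => p.1 * nth p.2 (T.ty g)).sum : ℤ) : ℂ)) =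
        (p.1 : ℂ) • fn T p.2 + fun g => (((L.map fun p => p.1 * nth p.2 (T.ty g)).sum : ℤ) : ℂ) := by
      funext g; simp
    rw [h1, classInner_add_left, classInner_smul_left, h p List.mem_cons_self,
      inner_list L fun q hq => h q (List.mem_cons_of_mem _ hq), mul_zero, add_zero]

/-- **half of the sum is virtual** -/
theorem virt_half (hm : T.Mass) {u v w : List ℤ} {a : ℕ} {L : List (ℤ × List ℤ)} (hu : Virt T (nth u))
    (hL : ∀ p ∈ L, Virt T (nth p.2)) (hc : okHalf D u v w a L = true) : Virt T (nth w) := by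
  classical
  have := Fintype.ofFinite G
  have := finite_irr (G := G)
  have := Fintype.ofFinite (IrrCharacter G)
  simp only [okHalf, Bool.and_eq_true, beq_iff_eq, bne_iff_ne, ne_eq, List.all_eq_true, List.mem_range,
    Bool.or_eq_true, List.any_eq_true, decide_eq_true_eq] at hc
  obtain ⟨⟨⟨⟨hl, ha⟩, huu⟩, h1⟩, h2⟩ := hc
  have hip : ∀ {r s : List ℤ} (hr : Virt T (nth r)) (hs : Virt T (nth s)) {z : ℤ}, ip D r s = D.N * z →
      ∑ x, mu hr x * mu hs x = z := fun {r s} hr hs z h => by
    have h3 := inner_of_ip hm hl h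
    rw [show classInner (fn T r) (fn T s) = _ from inner_sum_mu hr hs] at h3
    exact_mod_cast h3
  by_contra hw
  have h3 := hip hu hu huu
  obtain ⟨x, -, hx⟩ := Finset.exists_ne_zero_of_sum_ne_zero (h3 ▸ two_ne_zero)
  have hx' : mu hu x ≠ 0 := left_ne_zero_of_mul hx
  have h4 : ∀ p ∈ L, classInner (fn T p.2) (x : G → ℂ) = 0 := fun p hp => by
    rw [show classInner (fn T p.2) (x : G → ℂ) = _ from inner_mu (hL p hp) x, Int.cast_eq_zero]
    by_contra h5
    obtain ⟨h6, h7⟩ := h1 p hp
    rcases h7 with h7 | ⟨h7, h8⟩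
    · exact absurd (even_of_share one_le_two h3 (hip _ _ h7) (hip hu _ h6) hx' h5).1 (by decide)
    · choose c hc using (even_of_share le_rfl h3 (hip _ _ h7) (hip hu _ h6) hx' h5).2
      have h10 : IsGeneralizedCharacter G (∑ z : IrrCharacter G, c z • (z : G → ℂ)) :=
        Subring.sum_mem (genRing G) fun z _ => zsmul_mem (S := Subring (G → ℂ)) (K := genRing G)
          (isGeneralizedCharacter_of_isCharacter (isIrr_isCharacter z.2)) _
      have h11 : ∀ g : G, (∑ z : IrrCharacter G, c z • (z : G → ℂ)) g + (∑ z : IrrCharacter G, c z • (z : G → ℂ)) g =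
          ((nth u (T.ty g) + nth p.2 (T.ty g) : ℤ) : ℂ) := fun g => by
        rw [Int.cast_add, apply_mu hu g, apply_mu (hL p hp) g, ← Finset.sum_add_distrib, Finset.sum_apply,
          ← Finset.sum_add_distrib]
        refine Finset.sum_congr rfl fun z _ => ?_
        rw [← add_mul, ← Int.cast_add, hc z, Pi.smul_apply, zsmul_eq_mul, Int.cast_add, add_mul]
      rcases h8 with h8 | ⟨t, ht, h8, h9⟩
      · refine hw ?_
        have h12 : (fun g => (nth w (T.ty g) : ℂ)) = ∑ z : IrrCharacter G, c z • (z : G → ℂ) := funext fun g => by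
          have h13 := h11 g
          rw [h8, (h2 _ (T.lt g)).1, Int.cast_add] at h13
          linear_combination (-1 / 2) * h13
        rw [Virt, h12]
        exact h10
      · rw [← hm.2 t ht] at h8
        obtain ⟨⟨g, rfl⟩⟩ := (Nat.card_pos_iff.1 h8).1
        exact h9 (even_of_integral (gen_integral h10 g) (h11 g))
  obtain ⟨d, hd, hd'⟩ : ∃ d : ℕ, (x : G → ℂ) 1 = d ∧ d ∣ Nat.card G := by
    obtain ⟨_, n, ρ, hρ, rfl⟩ := x
    exact ⟨_, Representation.char_one ρ, S0135.result ρ⟩
  have h5 : ((a : ℂ) • fn T u + fun g => (((L.map fun p => p.1 * nth p.2 (T.ty g)).sum : ℤ) : ℂ)) =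
      fun g => if g = 1 then (Nat.card G : ℂ) else 0 := by
    funext g
    have h6 := congrArg (Int.cast : ℤ → ℂ) (h2 _ (T.lt g)).2
    rw [← T.ord, ← hm.1] at h6
    simp only [orderOf_eq_one_iff, Int.cast_add, Int.cast_mul, Int.cast_natCast, Int.cast_ite, Int.cast_zero] at h6
    exact h6
  have h6 := congrArg (fun f => classInner f (x : G → ℂ)) h5
  simp only [classInner_add_left, classInner_smul_left, inner_list L h4, add_zero] at h6
  rw [show classInner (fn T u) (x : G → ℂ) = _ from inner_mu hu x, classInner_def,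
    Finset.sum_eq_single 1 (fun g _ hg => by rw [if_neg hg, zero_mul]) fun h => absurd (Finset.mem_univ _) h,
    if_pos rfl, hd, Complex.conj_natCast, inv_mul_cancel_left₀ card_ne_zero_complex] at h6
  have h7 : (a : ℤ) * mu hu x = d := by exact_mod_cast h6
  refine ha (Nat.mod_eq_zero_of_dvd (Dvd.dvd.trans ?_ (hm.1 ▸ hd')))
  exact Int.natCast_dvd_natCast.1 ⟨_, h7.symm⟩

end Cfsg.Agent.TAB.Co
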