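import Cfsg.Agent.TAB.Suz.Tool

/-!
# Pairs of characters whose sum has even values (helper88, TAB)

`oddRat2`, `allRat2`, `oddSig2` : the checks of `Use.Main` with one more test : the halves of the values of the sum of
the pair at `g` and `g ^ 2` have different parities.
-/

set_option autoImplicit false

namespace Cfsg.Agent.TAB.Co

open Cfsg Cfsg.Agent.TAB.Eng Cfsg.Agent.TAB.Use Cfsg.Agent.Characters Cfsg.Agent.ODD.Red

universe u

variable {G : Type u} [Group G] [Finite G] {D : Dat} {T : TD G D} {R : Rows} {χ : ℕ → G → ℂ}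

/-- the exponent of `σ` at an element of the type `t` is the square of a unit -/
def GoodSq (T : TD G D) (σ : ℂ ≃+* ℂ) (t : ℕ) : Prop :=
  ∃ (g : G) (m : ℕ), T.ty g = t ∧ m.Coprime (orderOf g) ∧ ∀ z : ℂ, z ^ orderOf g = 1 → σ z = z ^ (m * m)

/-- the test -/
def halfB (D : Dat) (R : Rows) (L : List ℕ) (j : ℕ) : Bool :=
  R.rel.any fun r =>
    (r.1.any fun q => decide (q.1 < R.n) && q.1 != j && (r.1 == [(j, 1), (q.1, 1)] || r.1 == [(q.1, 1), (j, 1)])) &&
      L.any fun t => (r.2.getD (D.pwf t 2) 0 - r.2.getD t 0) % 4 != 0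

theorem fix_of_half (hE : Enum G R.n R.d χ) (hR : Rel T R χ) {σ : ℂ ≃+* ℂ} {L : List ℕ}
    (hL : ∀ t ∈ L, GoodSq T σ t) {j : ℕ} (hj : j < R.n) (h : halfB D R L j = true) : Fix σ (χ j) := by
  simp only [halfB, Bool.and_eq_true, List.any_eq_true, decide_eq_true_eq, bne_iff_ne, ne_eq, Bool.or_eq_true,
    beq_iff_eq] at h
  obtain ⟨r, hr, ⟨⟨k, c⟩, -, ⟨hk, hne⟩, h⟩, t, ht, h6⟩ := h
  refine (Sz.pair_map hE hR hr hj hk hne h σ).resolve_right fun h1 => h6 ?_
  obtain ⟨g, m, rfl, hm, hσ⟩ := hL t ht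
  obtain ⟨τ, hτ⟩ := GaloisBasic.exists_ringEquiv_pow (orderOf_pos g).ne' hm
  have hc := Core.isIrr_isCharacter (hE.irr j hj)
  have hsq : ∀ x : G, τ (τ (χ j x)) = χ j x := fun x => by
    rcases Sz.pair_map hE hR hr hj hk hne h τ with h2 | h2
    · rw [h2, h2]
    · rcases Sz.pair_map hE hR hr hk hj (Ne.symm hne) h.symm τ with h3 | h3
      · exact absurd (hE.inj k hk j hj (funext fun y => τ.injective ((h3 y).trans (h2 y).symm))) hne
      · rw [h2, h3]
  have key : ∀ x : G, x ^ orderOf g = 1 → χ j x + χ j x = ((r.2.getD (T.ty x) 0 : ℤ) : ℂ) := fun x hx => by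
    have h2 : σ (χ j x) = _ := GaloisBasic.map_apply (σ : ℂ →+* ℂ) hσ hc (orderOf_pos g).ne' hx
    have h3 : τ (χ j x) = _ := GaloisBasic.map_apply (τ : ℂ →+* ℂ) hτ hc (orderOf_pos g).ne' hx
    have h4 : τ (χ j (x ^ m)) = _ := GaloisBasic.map_apply (τ : ℂ →+* ℂ) hτ hc (g := x ^ m) (orderOf_pos g).ne'
      (by rw [← pow_mul, mul_comm, pow_mul, hx, one_pow])
    have h5 := hsq x
    rw [h3, h4, ← pow_mul, ← h2, h1] at h5
    rw [← Sz.pair_sum hR hr h x, h5]
  have h2 := key g (pow_orderOf_eq_one g)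
  have h3 := key (g ^ 2) (by rw [← pow_mul, mul_comm, pow_mul, pow_orderOf_eq_one, one_pow])
  rw [T.pow] at h3
  obtain ⟨a, ha⟩ := Int.dvd_of_emod_eq_zero (even_of_integral (GaloisBasic.isIntegral_apply hc _) h2)
  obtain ⟨b, hb⟩ := Int.dvd_of_emod_eq_zero (even_of_integral (GaloisBasic.isIntegral_apply hc _) h3)
  rw [ha] at h2
  rw [hb] at h3
  have h4 := Sz.gen_cong' (Brauer.isGeneralizedCharacter_of_isCharacter hc) (g := g) (a := a) (b := b) Nat.prime_two
    (by push_cast at h2; linear_combination h2 / 2) (by push_cast at h3; linear_combination h3 / 2)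
  push_cast at h4
  omega

/-- types whose order is not divisible by four -/
def twoL (D : Dat) (L : List ℕ) : Bool := L.all fun t => decide (t < D.n) && D.ord t % 4 != 0

omit [Finite G] in
theorem goodSq_two (hI : Inh T) {L : List ℕ} (hL : twoL D L = true) {τ : ℂ ≃+* ℂ} (hτ : Two τ) :
    ∀ t ∈ L, GoodSq T τ t := fun t ht => by
  have h := List.all_eq_true.1 hL t ht
  simp only [Bool.and_eq_true, decide_eq_true_eq, bne_iff_ne, ne_eq] at h
  obtain ⟨g, rfl⟩ := hI t h.1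
  refine ⟨g, 1, rfl, Nat.coprime_one_left _, fun z hz => ?_⟩
  rw [pow_one]
  rw [← T.ord] at h
  rcases Nat.even_or_odd' (orderOf g) with ⟨m, hm | hm⟩
  · exact Sz.two_fix hτ (m := m) (Nat.odd_iff.2 (by omega)) (hm ▸ hz)
  · exact hτ _ z ⟨m, hm⟩ hz

omit [Finite G] in
theorem goodSq_sig (hI : Inh T) {L : List (ℕ × ℕ × ℕ × ℕ)} (hL : sqL D L = true) {σ : ℂ ≃+* ℂ} (hσ : Sig σ) :
    ∀ t ∈ L.map Prod.fst, GoodSq T σ t := fun t ht => by
  obtain ⟨x, hx, rfl⟩ := List.mem_map.1 ht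
  have h := List.all_eq_true.1 hL x hx
  rw [Bool.and_eq_true, beq_iff_eq] at h
  have h1 : x.1 < D.n := by
    have := h.1
    simp only [expB, Bool.and_eq_true, decide_eq_true_eq] at this
    exact this.1.1.1.1
  obtain ⟨g, hg⟩ := hI x.1 h1
  rw [← hg] at h ⊢
  exact ⟨g, _, rfl, by rw [T.ord]; exact h.2, hσ.pow_of_chk h.1⟩

theorem oddRat2 (h : Tab T R) (hI : Inh T) (L L' : List ℕ) (hL : oddL D L = true) (hL' : twoL D L' = true)
    (hc : ((List.range R.n).all fun j => R.d j % 2 == 0 || fixB R L j || halfB D R L' j) = true) : OddRat G := by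
  obtain ⟨χ, hE, hR⟩ := h
  intro ψ hψ ho τ hτ
  obtain ⟨j, hj, rfl⟩ := hE.all ψ hψ
  have h1 := List.all_eq_true.1 hc j (List.mem_range.2 hj)
  rw [hE.charDegree_eq hj, Nat.odd_iff] at ho
  simp only [ho, Bool.or_eq_true, beq_iff_eq, one_ne_zero, false_or] at h1
  exact h1.elim (fix_of_chk hE hR (good_two hI hL hτ) hj) (fix_of_half hE hR (goodSq_two hI hL' hτ) hj)

theorem allRat2 (h : Tab T R) (hI : Inh T) (L L' : List ℕ) (hL : oddL D L = true) (hL' : twoL D L' = true)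
    (hc : ((List.range R.n).all fun j => fixB R L j || halfB D R L' j) = true) : AllRat G := by
  obtain ⟨χ, hE, hR⟩ := h
  intro ψ hψ τ hτ
  obtain ⟨j, hj, rfl⟩ := hE.all ψ hψ
  have h1 := List.all_eq_true.1 hc j (List.mem_range.2 hj)
  rw [Bool.or_eq_true] at h1
  exact h1.elim (fix_of_chk hE hR (good_two hI hL hτ) hj) (fix_of_half hE hR (goodSq_two hI hL' hτ) hj)

theorem oddSig2 (h : Tab T R) (hI : Inh T) (L : List (ℕ × ℕ × ℕ × ℕ)) (hL : sqL D L = true)
    (hc : ((List.range R.n).all fun j => R.d j % 2 == 0 || fixB R (L.map Prod.fst) j ||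
      halfB D R (L.map Prod.fst) j) = true) : OddSig G := by
  obtain ⟨χ, hE, hR⟩ := h
  intro ψ hψ ho σ hσ
  obtain ⟨j, hj, rfl⟩ := hE.all ψ hψ
  have h1 := List.all_eq_true.1 hc j (List.mem_range.2 hj)
  rw [hE.charDegree_eq hj, Nat.odd_iff] at ho
  simp only [ho, Bool.or_eq_true, beq_iff_eq, one_ne_zero, false_or] at h1
  refine h1.elim (fix_of_chk hE hR (fun t ht => ?_) hj) (fix_of_half hE hR (goodSq_sig hI hL hσ) hj)
  obtain ⟨x, hx, rfl⟩ := List.mem_map.1 ht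
  exact good_sig hI hL hσ x hx

end Cfsg.Agent.TAB.Co
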