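import Cfsg.Agent.H123.Cls.LDat
import Cfsg.Agent.H68.CoInst
import Cfsg.Agent.TAB.Use.Main

/-!
# The elements of order 39 of `Co1` are conjugate to their squares (helper88, TAB)
-/

set_option autoImplicit false

namespace Cfsg.Agent.TAB.Co

open Cfsg Cfsg.Agent.H123.Cls Cfsg.Agent.H123.Cls.CoD Cfsg.Agent.H68.CoMdl

/-- inverts the thirteenth power of the second generator -/
def m39T : List ℕ := [6756622, 4340352, 11434258, 11102047, 14159456, 6361622, 2583828, 1058985, 14613944, 6302499,
  2376123, 15626909, 7048431, 4890193, 11349810, 12781076, 13806271, 14460422, 11205941, 923797, 12276452, 4932523,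
  8533805, 6556241]

/-- the conjugating element -/
def m39U : List ℕ := [8767210, 14740746, 11543725, 8284808, 15362396, 16747056, 16292727, 14445676, 2736656, 5363454,
  15700811, 523270, 16285101, 11964270, 7486072, 14442726, 11206821, 14895615, 15544479, 13906900, 6046563, 8188011,
  6300595, 11608292]

/-- its product with the second generator -/
def m39Z : List ℕ := [579562, 4285225, 16615908, 7873225, 16387031, 16657416, 2232336, 11748590, 15060657, 6091390,
  1661230, 2860570, 5623490, 15995698, 9895267, 3917753, 11545822, 6242048, 9216834, 16649697, 15743833, 13179569,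
  14250510, 5602966]

theorem w39T : chkWd MA MB false [false, true, false, false, true, false, true, false, false, false, false, false,
    false, false, true, true, true, true, true, false, true, false, false] m39T = true := by
  decide +kernel

theorem w39U : chkWd m39T d93.R false [false, false, false, false, true, false, true, false, true, true, true, true, true,
    true, false, false, false, true, false, false, true, true, true, false, false, false,
    true, true, true, true, true, false, true, false, true, false, false] m39U = true := by
  decide +kernel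

theorem w39L : chkWd m39U d93.R false [true] m39Z = true := by decide +kernel

theorem w39R : chkWd m39U d93.R true [true, false] m39Z = true := by decide +kernel

theorem eq_of_L {G : Type*} [Group G] (S : Mdl G) {x y : G} (h : ∀ c, S.L x c = S.L y c) : x = y := by
  have h1 : y⁻¹ * x = 1 := S.faith _ fun k hk => by
    rw [S.L_mul, h, ← S.L_mul, inv_mul_cancel, S.L_one _ (Nat.pow_lt_pow_right (by norm_num) hk)]
  exact (inv_mul_eq_one.1 h1).symm

/-- the representative of order 39 is conjugate to its square -/
theorem conj39 (r : Spor.Co1) (hr : ∀ c, S1.L r c = xc d93.R c) : IsConj r (r ^ 2) := by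
  have h1 := S1.of_chkWd (S1.of_chkWd (a := ga) (b := gb) L_ga L_gb w39T) hr w39U
  generalize wG _ r _ _ = u at h1
  have h2 : u * r = r * (r * u) :=
    eq_of_L S1 fun c => (S1.of_chkWd h1 hr w39L c).trans (S1.of_chkWd h1 hr w39R c).symm
  exact isConj_iff.2 ⟨u, by rw [h2, pow_two, mul_assoc, mul_inv_cancel_right]⟩

theorem conj39_gb : IsConj gb (gb ^ 2) := conj39 gb L_gb

/-- the form of `Tab.oddSig` -/
theorem sigConj39 {D : Eng.Dat} {T : Eng.TD Spor.Co1 D} {t : ℕ} (h : T.ty gb = t) (hc : Use.expB D t 0 39 2 = true) :
    Use.SigConj T t := ⟨gb, 0, 39, 2, h, hc, conj39_gb⟩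

end Cfsg.Agent.TAB.Co
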